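import Groth.Agent.Lib.IntMult3.Setup
import Groth.Agent.Lib.KoszulEuler.TorLen
import Groth.Agent.Lib.KoszulEuler.Lech
import Groth.Agent.Lib.CMBasics.Basic

/-! The multiplicity when `V` is a complete intersection at the point. -/

set_option autoImplicit false
set_option linter.style.haveILetI false
set_option linter.unusedSectionVars false

universe u

open CategoryTheory RingTheory.Sequence GrothLib.KoszulEuler Pointwise

namespace GrothLib.IntMult3

variable {A : Type u} [CommRing A]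

/-- The successive quotient. -/
theorem nonempty_quot_equiv (J I : Ideal A) :
    Nonempty (((A ⧸ J) ⧸ (I • (⊤ : Submodule A (A ⧸ J)))) ≃ₗ[A] A ⧸ (J ⊔ I)) := by
  let φ : A →ₗ[A] (A ⧸ J) ⧸ (I • (⊤ : Submodule A (A ⧸ J))) :=
    (Submodule.mkQ _).comp (Submodule.mkQ J)
  have hk : LinearMap.ker φ = J ⊔ I := by
    rw [LinearMap.ker_comp, Submodule.ker_mkQ,
      show (⊤ : Submodule A (A ⧸ J)) = Submodule.map (Submodule.mkQ J) ⊤ by rw [Submodule.map_top, Submodule.range_mkQ],
      ← Submodule.map_smul'', Submodule.comap_map_mkQ, Ideal.smul_eq_mul, Ideal.mul_top]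
  exact ⟨(LinearMap.quotKerEquivOfSurjective φ ((Submodule.mkQ_surjective _).comp (Submodule.mkQ_surjective _))).symm.trans
    (Submodule.quotEquivOfEq _ _ hk)⟩

theorem length_quot_eq (J I : Ideal A) :
    Module.length A ((A ⧸ J) ⧸ (I • (⊤ : Submodule A (A ⧸ J)))) = Module.length A (A ⧸ (J ⊔ I)) :=
  (nonempty_quot_equiv J I).elim fun e => e.length_eq

variable [IsNoetherianRing A] [IsLocalRing A] {c : ℕ} {g : Fin c → A} {JV JW : Ideal A}

theorem fl_of_ne_top (hg : JV = Ideal.span (Set.range g)) (hfin : Module.length A (A ⧸ (JV ⊔ JW)) ≠ ⊤) :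
    IsFiniteLength A ((A ⧸ JW) ⧸ (Ideal.span (Set.range g) • (⊤ : Submodule A (A ⧸ JW)))) :=
  Module.length_ne_top_iff.1 (by rwa [length_quot_eq, ← hg, sup_comm])

theorem mult_eq_chi (hg : JV = Ideal.span (Set.range g)) (hreg : IsWeaklyRegular A (List.ofFn g)) :
    IntMult.chi A (A ⧸ JW) (A ⧸ JV) = chi (ModuleCat.of A (A ⧸ JW)) (List.ofFn g) := by
  subst hg
  rw [intMult_chi_comm, ← ofList_ofFn g, intMult_chi_eq _ hreg]

theorem chi_props_quot (hg : JV = Ideal.span (Set.range g)) (hgm : JV ≤ IsLocalRing.maximalIdeal A)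
    (hfin : Module.length A (A ⧸ (JV ⊔ JW)) ≠ ⊤) :
    Props (ModuleCat.of A (A ⧸ JW)) (List.ofFn g) :=
  chi_props _ (fun a ha => by
    obtain ⟨j, rfl⟩ := (List.mem_ofFn' g a).1 ha
    exact hgm (hg ▸ Ideal.subset_span (Set.mem_range_self j))) _ (inferInstanceAs (Module.Finite A (A ⧸ JW)))
    (good_of_fl (fl_of_ne_top hg hfin))

theorem chi_pos (hg : JV = Ideal.span (Set.range g)) (hgm : JV ≤ IsLocalRing.maximalIdeal A)
    (hfin : Module.length A (A ⧸ (JV ⊔ JW)) ≠ ⊤) (hdim : (c : WithBot ℕ∞) ≤ ringKrullDim (A ⧸ JW)) :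
    0 < chi (ModuleCat.of A (A ⧸ JW)) (List.ofFn g) := by
  obtain ⟨-, h0, h1⟩ := chi_props_quot hg hgm hfin
  refine lt_of_le_of_ne h0 fun h => ?_
  have h2 := h1.1 h.symm
  rw [List.length_ofFn, show Module.supportDim A (ModuleCat.of A (A ⧸ JW)) = _ from
    Module.supportDim_quotient_eq_ringKrullDim JW] at h2
  exact absurd hdim h2.not_ge

/-- For a regular sequence on `A/JW` the Euler characteristic is the colength. -/
theorem chi_eq_length (hg : JV = Ideal.span (Set.range g)) (h : IsWeaklyRegular (A ⧸ JW) (List.ofFn g)) :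
    chi (ModuleCat.of A (A ⧸ JW)) (List.ofFn g) = ((Module.length A (A ⧸ (JW ⊔ JV))).toNat : ℤ) := by
  rw [chi_eq_sum, Finset.sum_eq_single 0]
  · rw [Nat.cast_zero, neg_zero, Int.negOnePow_zero, Units.val_one, one_mul, ln_zero_eq_col]
    show ((Module.length A _).toNat : ℤ) = _
    rw [length_quot_eq, hg]
  · intro i _ hi
    rw [show ln (ModuleCat.of A (A ⧸ JW)) (List.ofFn g) (-(i : ℤ)) = 0 from ?_, Nat.cast_zero, mul_zero]
    have hz := GrothLib.KoszulMod.isZero_homology_of_isWeaklyRegular (ModuleCat.of A (A ⧸ JW)) (List.ofFn g) h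
      (-(i : ℤ)) (by omega)
    haveI := ModuleCat.subsingleton_of_isZero hz
    rw [ln, ← length_homology, Module.length_eq_zero]
    rfl
  · intro h0
    exact absurd (Finset.mem_range.2 (Nat.succ_pos _)) h0

/-- A system of parameters on a Cohen–Macaulay quotient is regular. -/
theorem regular_of_cm (hg : JV = Ideal.span (Set.range g)) (hgm : JV ≤ IsLocalRing.maximalIdeal A)
    (hfin : Module.length A (A ⧸ (JV ⊔ JW)) ≠ ⊤) (hJW : JW ≠ ⊤) (hdim : (c : WithBot ℕ∞) ≤ ringKrullDim (A ⧸ JW))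
    [LocCoh.IsCohenMacaulayLocalRing (A ⧸ JW)] : IsWeaklyRegular (A ⧸ JW) (List.ofFn g) := by
  let B := A ⧸ JW
  haveI : Nontrivial B := Ideal.Quotient.nontrivial_iff.2 hJW
  haveI : IsLocalHom (algebraMap A B) := (Ideal.Quotient.mk_surjective (I := JW)).isLocalHom _
  rw [← isWeaklyRegular_map_algebraMap_iff B B]
  have hmem : ∀ y ∈ (List.ofFn g).map (algebraMap A B), y ∈ IsLocalRing.maximalIdeal B := by
    intro y hy
    obtain ⟨a, ha, rfl⟩ := List.mem_map.1 hy
    obtain ⟨j, rfl⟩ := (List.mem_ofFn' g a).1 ha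
    exact map_nonunit _ _ (hgm (hg ▸ Ideal.subset_span (Set.mem_range_self j)))
  refine ((GrothLib.CMBasics.isWeaklyRegular_iff LocCoh.IsCohenMacaulayLocalRing.supportDim_eq_depth _ hmem).1).2 ?_
  have hc : ringKrullDim B = (c : WithBot ℕ∞) := by
    refine le_antisymm ?_ hdim
    have := (chi_props_quot (g := g) hg hgm hfin).1
    rwa [List.length_ofFn, show Module.supportDim A (ModuleCat.of A (A ⧸ JW)) = _ from
      Module.supportDim_quotient_eq_ringKrullDim JW] at this
  have e : (Ideal.ofList ((List.ofFn g).map (algebraMap A B)) • (⊤ : Submodule B B)).restrictScalars A =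
      Ideal.span (Set.range g) • (⊤ : Submodule A B) := by
    rw [← Ideal.map_ofList, ofList_ofFn, Ideal.smul_eq_mul, Ideal.mul_top, Ideal.smul_top_eq_map]
  haveI hfl : IsFiniteLength A (B ⧸ (Ideal.ofList ((List.ofFn g).map (algebraMap A B)) • (⊤ : Submodule B B))) := by
    have h1 := fl_of_ne_top (g := g) hg hfin
    exact h1.of_surjective ((Submodule.quotEquivOfEq _ _ e.symm).trans
      (Submodule.Quotient.restrictScalarsEquiv A (Ideal.ofList ((List.ofFn g).map (algebraMap A B)) • (⊤ : Submodule B B)))).surjective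
  have hB : IsFiniteLength B (B ⧸ (Ideal.ofList ((List.ofFn g).map (algebraMap A B)) • (⊤ : Submodule B B))) := by
    rw [← Module.length_ne_top_iff] at hfl ⊢
    rwa [Module.length_eq_of_surjective (S := A) (R := B) (Ideal.Quotient.mk_surjective (I := JW))] at hfl
  haveI := GrothLib.Depth.nontrivial_quotient_ofList (M := B) _ hmem
  have h0 : Module.supportDim B (B ⧸ (Ideal.ofList ((List.ofFn g).map (algebraMap A B)) • (⊤ : Submodule B B))) = 0 := by
    refine le_antisymm (GrothLib.LenIneq.supportDim_le_zero (Module.length_ne_top_iff.2 hB)) ?_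
    obtain ⟨a, ha⟩ := WithBot.ne_bot_iff_exists.1 ((Module.supportDim_ne_bot_iff_nontrivial B
      (B ⧸ (Ideal.ofList ((List.ofFn g).map (algebraMap A B)) • (⊤ : Submodule B B)))).2 inferInstance)
    rw [← ha]
    exact WithBot.coe_le_coe.2 zero_le
  rw [h0, zero_add, List.length_map, List.length_ofFn, Module.supportDim_self_eq_ringKrullDim, hc]

end GrothLib.IntMult3
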