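import Groth.Prelude.Def_IntMult
import Groth.Agent.Lib.CartierDescent.Conditions
import Groth.Agent.Lib.BlowUp.StalkIdeal
import Groth.Agent.Lib.DimCut.FibreDimGE
import Groth.Agent.Lib.DimCut.Product
import Groth.Agent.Lib.AffDom.LocalDim
import Groth.Agent.Lib.CycBasic.DimFun
import Groth.Agent.Lib.FiniteLengthSupp
import Mathlib.RingTheory.KrullDimension.Regular

/-! Local rings at a component of a proper intersection. -/

set_option autoImplicit false
set_option linter.style.haveILetI false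

universe u

open CategoryTheory AlgebraicGeometry TopologicalSpace IsLocalRing

namespace GrothLib.IntMult3

variable {K : Type u} [Field K] {X : Scheme.{u}}

theorem stalkIdeal_eq (I : X.IdealSheafData) (x : X) :
    IntMult.stalkIdeal I x = GrothLib.CartierDescent.stalkIdeal I x := by
  refine le_antisymm (iSup_le fun U => iSup_le fun hx => ?_) ?_
  · rw [GrothLib.CartierDescent.stalkIdeal_eq I U hx]
  · obtain ⟨_, ⟨U, hU, rfl⟩, hxU, -⟩ :=
      X.isBasis_affineOpens.exists_subset_of_mem_open (Set.mem_univ x) isOpen_univ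
    rw [GrothLib.CartierDescent.stalkIdeal_eq I ⟨U, hU⟩ hxU]
    exact le_iSup₂_of_le (⟨U, hU⟩ : X.affineOpens) hxU le_rfl

theorem stalkIdeal_ne_top (I : X.IdealSheafData) {x : X} (hx : x ∈ I.support) : IntMult.stalkIdeal I x ≠ ⊤ := by
  rw [stalkIdeal_eq, Ne, GrothLib.CartierDescent.stalkIdeal_eq_top_iff, not_not]
  exact hx

/-- A prime containing the stalk of an ideal is a point of the support. -/
theorem mem_support_of_le (I : X.IdealSheafData) {x : X} (P : PrimeSpectrum (X.presheaf.stalk x))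
    (h : IntMult.stalkIdeal I x ≤ P.asIdeal) : X.fromSpecStalk x P ∈ I.support := by
  have hsp := GrothLib.CycBasic.specializes_fromSpecStalk P
  have hP : P = PrimeSpectrum.comap (X.presheaf.stalkSpecializes hsp).hom (closedPoint _) :=
    (X.fromSpecStalk x).isEmbedding.injective (GrothLib.CycBasic.fromSpecStalk_comap_closedPoint hsp).symm
  by_contra hne
  rw [← GrothLib.CartierDescent.stalkIdeal_eq_top_iff, ← GrothLib.CartierDescent.stalkIdeal_map_specializes I hsp] at hne
  refine (maximalIdeal.isMaximal _).ne_top (top_le_iff.1 (hne.ge.trans (Ideal.map_le_iff_le_comap.2 ?_)))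
  rw [stalkIdeal_eq] at h
  exact h.trans (congrArg PrimeSpectrum.asIdeal hP).le

/-- At a component of the intersection the intersection has dimension zero. -/
theorem length_ne_top [IsLocallyNoetherian X] (IV IW : X.IdealSheafData) (ξ : X) (hξV : ξ ∈ IV.support) (hξW : ξ ∈ IW.support)
    (hmax : ∀ ξ' : X, ξ' ∈ IV.support → ξ' ∈ IW.support → ξ' ⤳ ξ → ξ' = ξ) :
    Module.length (X.presheaf.stalk ξ)
      (↑(X.presheaf.stalk ξ) ⧸ (IntMult.stalkIdeal IV ξ ⊔ IntMult.stalkIdeal IW ξ)) ≠ ⊤ := by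
  refine (GrothLib.FiniteLengthSupp.length_lt_top ?_).ne
  rw [Module.supportDim_quotient_eq_ringKrullDim]
  rw [ringKrullDim_quotient, Order.krullDim_nonpos_iff_forall_isMax]
  rintro ⟨P, hP⟩ ⟨Q, hQ⟩ hPQ
  rw [PrimeSpectrum.mem_zeroLocus, SetLike.coe_subset_coe] at hP
  have h1 := mem_support_of_le IV P (le_sup_left.trans hP)
  have h2 := mem_support_of_le IW P (le_sup_right.trans hP)
  have h3 := hmax _ h1 h2 (GrothLib.CycBasic.specializes_fromSpecStalk P)
  have hPM : P = closedPoint (X.presheaf.stalk ξ) :=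
    (X.fromSpecStalk ξ).isEmbedding.injective (h3.trans Scheme.fromSpecStalk_closedPoint.symm)
  show Q ≤ P
  rw [hPM]
  exact IsLocalRing.le_maximalIdeal Q.isPrime.ne_top

/-- The local ring of an integral closed subscheme. -/
theorem dim_quotient [IsLocallyNoetherian X] (f : X ⟶ Spec (CommRingCat.of K)) [LocallyOfFiniteType f]
    (I : X.IdealSheafData) [IsIntegral I.subscheme] (s : ℕ) (hs : topologicalKrullDim I.support = s) {ξ : X}
    (hξ : ξ ∈ I.support) :
    GrothLib.AffDom.ptDim ξ + ringKrullDim (↑(X.presheaf.stalk ξ) ⧸ IntMult.stalkIdeal I ξ) = s ∧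
      (IntMult.stalkIdeal I ξ).IsPrime := by
  have hr : ξ ∈ Set.range I.subschemeι := by rw [I.range_subschemeι]; exact hξ
  obtain ⟨d, rfl⟩ := hr
  obtain ⟨_, ⟨U, hU, rfl⟩, hxU, -⟩ :=
    X.isBasis_affineOpens.exists_subset_of_mem_open (Set.mem_univ (I.subschemeι d)) isOpen_univ
  have hker : IntMult.stalkIdeal I (I.subschemeι d) = RingHom.ker (I.subschemeι.stalkMap d).hom := by
    rw [stalkIdeal_eq, GrothLib.CartierDescent.stalkIdeal_eq I ⟨U, hU⟩ hxU,
      GrothLib.BlowUp.ker_stalkMap_subschemeι I d ⟨U, hU⟩ hxU]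
  refine ⟨?_, ?_⟩
  · have h1 := GrothLib.AffDom.localDim_eq (I.subschemeι ≫ f) d
    rw [GrothLib.DimCut.ptDim_immersion f I.subschemeι d] at h1
    have e := (Ideal.quotEquivOfEq hker).trans
      (RingHom.quotientKerEquivOfSurjective (GrothLib.BlowUp.surjective_stalkMap_subschemeι I d))
    rw [ringKrullDim_eq_of_ringEquiv e, ← h1]
    have hdim : topologicalKrullDim I.subscheme = s := by
      rw [(I.subschemeι.isEmbedding.toHomeomorph.trans
        (Homeomorph.setCongr I.range_subschemeι)).isHomeomorph.topologicalKrullDim_eq]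
      exact hs
    have hopen : ∀ W : I.subscheme.Opens, d ∈ W → topologicalKrullDim (W : Set I.subscheme) = s :=
      fun W hW => (GrothLib.DimCut.dim_opens_eq (I.subschemeι ≫ f) W ⟨⟨d, hW⟩⟩).trans hdim
    exact le_antisymm ((iInf_le _ ⟨⊤, trivial⟩).trans (hopen ⊤ trivial).le)
      (le_iInf fun W => (hopen W.1 W.2).ge)
  · rw [hker]
    exact RingHom.ker_isPrime _

/-- The numerical data at a component of a proper intersection. -/
theorem dims [IsLocallyNoetherian X] (f : X ⟶ Spec (CommRingCat.of K)) [LocallyOfFiniteType f] [IsIntegral X]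
    (IV IW : X.IdealSheafData) [IsIntegral IV.subscheme] [IsIntegral IW.subscheme]
    (n r s : ℕ) (hn : topologicalKrullDim X = n) (hr : topologicalKrullDim IV.support = r)
    (hs : topologicalKrullDim IW.support = s)
    (hprop : IntMult.ProperInt (IV.support : Set X) (IW.support : Set X) n r s) (ξ : X) (hξV : ξ ∈ IV.support)
    (hξW : ξ ∈ IW.support) :
    ∃ e a b c : ℕ, ringKrullDim (X.presheaf.stalk ξ) = a ∧
      ringKrullDim (↑(X.presheaf.stalk ξ) ⧸ IntMult.stalkIdeal IV ξ) = b ∧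
      ringKrullDim (↑(X.presheaf.stalk ξ) ⧸ IntMult.stalkIdeal IW ξ) = c ∧
      e + a = n ∧ e + b = r ∧ e + c = s ∧ a ≤ b + c := by
  obtain ⟨h2, -⟩ := dim_quotient f IV r hr hξV
  obtain ⟨h3, -⟩ := dim_quotient f IW s hs hξW
  have h1 := GrothLib.AffDom.localDim_eq f ξ
  have hX : FlatMor.localDim X ξ = n := le_antisymm
    ((iInf_le (fun U : {U : TopologicalSpace.Opens X // ξ ∈ U} => topologicalKrullDim (U.1 : Set X)) ⟨(⊤ : X.Opens), trivial⟩).trans
      ((GrothLib.DimCut.dim_opens_eq f (⊤ : X.Opens) ⟨⟨ξ, trivial⟩⟩).trans hn).le)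
    (le_iInf fun W => ((GrothLib.DimCut.dim_opens_eq f W.1 ⟨⟨ξ, W.2⟩⟩).trans hn).ge)
  rw [hX] at h1
  obtain ⟨hnrs, hdim⟩ := hprop ⟨ξ, hξV, hξW⟩
  have h4 := (GrothLib.DimCut.ptDim_le_dim_closed (IV.support.isClosed.inter IW.support.isClosed)
    (x := ξ) ⟨hξV, hξW⟩).trans hdim
  obtain ⟨m, -, hm⟩ : ∃ m : ℕ, True ∧ GrothLib.AffDom.ptDim ξ = m := by
    obtain ⟨m, hm, -⟩ := GrothLib.AffDom.exists_dim_closure f ξ
    exact ⟨m, trivial, hm⟩
  rw [hm] at h1 h2 h3 h4
  have key : ∀ {z : WithBot ℕ∞} {t : ℕ}, (m : WithBot ℕ∞) + z = t → ∃ a : ℕ, z = a ∧ m + a = t := by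
    intro z t hz
    induction z using WithBot.recBotCoe with
    | bot => rw [WithBot.add_bot] at hz; exact absurd hz.symm WithBot.coe_ne_bot
    | coe z =>
      induction z using ENat.recTopCoe with
      | top =>
        rw [← WithBot.coe_natCast, ← WithBot.coe_add, add_top] at hz
        exact absurd (WithBot.coe_inj.1 hz) (ENat.natCast_ne_top t).symm
      | coe a => exact ⟨a, rfl, by exact_mod_cast hz⟩
  obtain ⟨a, ha, ha'⟩ := key h1.symm
  obtain ⟨b, hb, hb'⟩ := key h2
  obtain ⟨c, hc, hc'⟩ := key h3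
  have h5 : m ≤ r + s - n := by exact_mod_cast h4
  exact ⟨m, a, b, c, ha, hb, hc, ha', hb', hc', by omega⟩

/-- A regular sequence generating the ideal of `V` has codimension many terms. -/
theorem dim_eq_length [IsLocallyNoetherian X] (f : X ⟶ Spec (CommRingCat.of K)) [LocallyOfFiniteType f] [IsIntegral X]
    (IV IW : X.IdealSheafData) [IsIntegral IV.subscheme] [IsIntegral IW.subscheme]
    (n r s : ℕ) (hn : topologicalKrullDim X = n) (hr : topologicalKrullDim IV.support = r)
    (hs : topologicalKrullDim IW.support = s)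
    (hprop : IntMult.ProperInt (IV.support : Set X) (IW.support : Set X) n r s) (ξ : X) (hξV : ξ ∈ IV.support)
    (hξW : ξ ∈ IW.support) (c : ℕ) (g : Fin c → ↑(X.presheaf.stalk ξ))
    (hg : IntMult.stalkIdeal IV ξ = Ideal.span (Set.range g))
    (hreg : RingTheory.Sequence.IsRegular (↑(X.presheaf.stalk ξ)) (List.ofFn g)) :
    (c : WithBot ℕ∞) ≤ ringKrullDim (↑(X.presheaf.stalk ξ) ⧸ IntMult.stalkIdeal IW ξ) := by
  obtain ⟨e, a, b, w, ha, hb, hw, -, -, -, hle⟩ := dims f IV IW n r s hn hr hs hprop ξ hξV hξW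
  have h := ringKrullDim_add_length_eq_ringKrullDim_of_isRegular (List.ofFn g) hreg
  have hl : Ideal.ofList (List.ofFn g) = IntMult.stalkIdeal IV ξ := by
    rw [hg]; exact congrArg Ideal.span (Set.ext fun a => List.mem_ofFn' g a)
  rw [ringKrullDim_eq_of_ringEquiv (Ideal.quotEquivOfEq hl), hb, ha, List.length_ofFn] at h
  have h' : b + c = a := by exact_mod_cast h
  rw [hw]
  exact_mod_cast (show c ≤ w by omega)

end GrothLib.IntMult3
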